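import Groth.Prelude.Def_AnEps
import Groth.Agent.AnPts.Separated
import Groth.Agent.AnPts.Closure
import Mathlib.CategoryTheory.Sites.CoverPreserving
import Mathlib.CategoryTheory.Functor.Flat
import Mathlib.CategoryTheory.Limits.MorphismProperty
import Mathlib.AlgebraicGeometry.Sites.Etale
import Mathlib.CategoryTheory.Sites.Pullback
import Mathlib.CategoryTheory.Abelian.GrothendieckAxioms.Basic
import Mathlib.Algebra.Category.Grp.AB
import Mathlib.Algebra.Category.Grp.FilteredColimits
import Mathlib.CategoryTheory.Limits.FilteredColimitCommutesFiniteLimit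

/-!
# The functor `U ↦ U(ℂ)` on étale schemes is flat and cover preserving
-/

set_option autoImplicit false

open AlgebraicGeometry CategoryTheory Limits TopologicalSpace Topology
open An

namespace Groth.Agent.AnEps

variable (X : Scheme.{0}) [X.Over SC] [LocallyOfFiniteType (X ↘ SC)] [Fact An.EtaleLH]

instance lft_left (U : X.Etale) : LocallyOfFiniteType (U.left ↘ SC) :=
  haveI : Etale (U.left ↘ X) := U.prop
  inferInstanceAs (LocallyOfFiniteType ((U.left ↘ X) ≫ X ↘ SC))

set_option backward.isDefEq.respectTransparency.types false in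
theorem preservesTerminal : PreservesLimit (Functor.empty.{0} X.Etale) (eps X) := by
  haveI : HasTerminal (Cl (Pts X)) := (Cl.selfIsTerminal (Pts X)).hasTerminal
  refine preservesTerminal_of_iso (eps X) ?_
  exact (eps X).mapIso (terminalIsTerminal.uniqueUpToIso (MorphismProperty.Over.mkIdTerminal @Etale X : IsTerminal (EtCoh.top X))) ≪≫
    epsTopIso X ≪≫ (Cl.selfIsTerminal (Pts X)).uniqueUpToIso terminalIsTerminal

set_option backward.isDefEq.respectTransparency.types false in
theorem preservesPullback {U V W : X.Etale} (g : U ⟶ W) (h : V ⟶ W) :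
    PreservesLimit (cospan g h) (eps X) := by
  have hsq := IsPullback.of_hasPullback g h
  refine preservesLimit_of_preserves_limit_cone hsq.isLimit ?_
  refine (isLimitMapConePullbackConeEquiv (eps X) hsq.w).symm ?_
  have hs : IsPullback (pullback.fst g h).left (pullback.snd g h).left g.left h.left :=
    hsq.map (MorphismProperty.Over.forget @Etale ⊤ X ⋙ CategoryTheory.Over.forget X)
  let e := hs.isoPullback
  haveI : e.hom.IsOver SC := ⟨by
    change e.hom ≫ pullback.fst g.left h.left ≫ (U.left ↘ SC) = _
    rw [← Category.assoc, IsPullback.isoPullback_hom_fst]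
    exact comp_over _ SC⟩
  let φ : Pts (pullback g h).left → Pts U.left × Pts V.left := fun z =>
    (Pts.map (pullback.fst g h).left z, Pts.map (pullback.snd g h).left z)
  have hφeq : φ = AnPts.pairMap g.left h.left ∘ Pts.map e.hom := funext fun z => Prod.ext
    (Subtype.ext (show z.1 ≫ (pullback.fst g h).left = (z.1 ≫ e.hom) ≫ pullback.fst g.left h.left by
      rw [Category.assoc, IsPullback.isoPullback_hom_fst]))
    (Subtype.ext (show z.1 ≫ (pullback.snd g h).left = (z.1 ≫ e.hom) ≫ pullback.snd g.left h.left by
      rw [Category.assoc, IsPullback.isoPullback_hom_snd]))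
  have hφ : IsEmbedding φ := by
    rw [hφeq]
    exact (AnPts.isEmbedding_pairMap g.left h.left).comp (AnPts.isOpenEmbedding_map e.hom).isEmbedding
  have hrange : ∀ a b, Pts.map g.left a = Pts.map h.left b → (a, b) ∈ Set.range φ := by
    intro a b hab
    obtain ⟨z, hz⟩ := AnPts.exists_pairMap g.left h.left a b hab
    obtain ⟨z', rfl⟩ : z ∈ Set.range (Pts.map e.hom) := by
      rw [AnPts.range_map_of_isOpenImmersion]
      exact ⟨e.inv z.pt, by rw [← Scheme.Hom.comp_apply, Iso.inv_hom_id]; rfl⟩
    exact ⟨z', hφeq ▸ hz⟩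
  let pr : ∀ s : PullbackCone ((eps X).map g) ((eps X).map h), s.pt.E → Pts U.left × Pts V.left :=
    fun s a => (s.fst.toFun a, s.snd.toFun a)
  have hmem : ∀ (s : PullbackCone ((eps X).map g) ((eps X).map h)) (a : s.pt.E), pr s a ∈ Set.range φ :=
    fun s a => hrange _ _ (congrFun (congrArg (fun m => m.toFun) s.condition) a)
  let lft : ∀ s : PullbackCone ((eps X).map g) ((eps X).map h), s.pt.E → Pts (pullback g h).left :=
    fun s a => hφ.toHomeomorph.symm ⟨pr s a, hmem s a⟩
  have hlft : ∀ s a, φ (lft s a) = pr s a := fun s a =>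
    congrArg Subtype.val (hφ.toHomeomorph.apply_symm_apply ⟨pr s a, hmem s a⟩)
  refine PullbackCone.IsLimit.mk _ (fun s => ⟨lft s, ?_, ?_⟩) ?_ ?_ ?_
  · exact hφ.toHomeomorph.symm.continuous.comp ((s.fst.continuous.prodMk s.snd.continuous).subtype_mk (hmem s))
  · intro a
    have h1 : ((eps X).map (pullback.fst g h)).toFun (lft s a) = s.fst.toFun a := congrArg Prod.fst (hlft s a)
    rw [← s.fst.over a, ← h1]
    exact (((eps X).map (pullback.fst g h)).over (lft s a)).symm
  · exact fun s => Cl.hom_ext (funext fun a => congrArg Prod.fst (hlft s a))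
  · exact fun s => Cl.hom_ext (funext fun a => congrArg Prod.snd (hlft s a))
  · intro s m h1 h2
    refine Cl.hom_ext (funext fun a => hφ.injective ?_)
    refine Eq.trans ?_ (hlft s a).symm
    exact Prod.ext (congrFun (congrArg (fun m => m.toFun) h1) a) (congrFun (congrArg (fun m => m.toFun) h2) a)

theorem representablyFlat : RepresentablyFlat (eps X) := by
  haveI := preservesTerminal X
  haveI : ∀ {U V W : X.Etale} (g : U ⟶ W) (h : V ⟶ W), PreservesLimit (cospan g h) (eps X) :=
    fun g h => preservesPullback X g h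
  haveI : PreservesLimitsOfShape (Discrete PEmpty.{1}) (eps X) :=
    preservesLimitsOfShape_pempty_of_preservesTerminal (eps X)
  haveI : PreservesLimitsOfShape WalkingCospan (eps X) :=
    ⟨fun {K} => preservesLimit_of_iso_diagram _ (diagramIsoCospan K).symm⟩
  haveI : PreservesFiniteLimits (eps X) := preservesFiniteLimits_of_preservesTerminal_and_pullbacks (eps X)
  exact flat_of_preservesFiniteLimits _

set_option backward.isDefEq.respectTransparency.types false in
theorem coverPreserving : CoverPreserving X.smallEtaleTopology (Cl.topology (Pts X)) (eps X) := by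
  constructor
  intro U S hS (a : Pts U.left)
  obtain ⟨ι, Z, f, rfl⟩ := S.exists_eq_ofArrows
  rw [Scheme.ofArrows_mem_smallEtaleTopology_iff] at hS
  obtain ⟨i, v, hv⟩ := Set.mem_iUnion.1 (hS ▸ Set.mem_univ a.pt : a.pt ∈ ⋃ i, Set.range (f i).left)
  obtain ⟨b, hb⟩ : a ∈ Set.range (Pts.map (f i).left) := by
    rw [AnPts.range_map_eq]
    exact ⟨v, hv⟩
  have hlh : IsLocalHomeomorph ((eps X).map (f i)).toFun := by
    refine IsLocalHomeomorph.of_comp (g := ((eps X).obj U).p) ?_ ((eps X).obj U).lh ((eps X).map (f i)).continuous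
    convert! ((eps X).obj (Z i)).lh using 1
    exact funext ((eps X).map (f i)).over
  obtain ⟨N, hN, hemb⟩ := isLocalHomeomorph_iff_isOpenEmbedding_restrict.1 hlh b
  obtain ⟨N', hN', hN'o, hbN'⟩ := mem_nhds_iff.1 hN
  refine ⟨_, Cl.restrictOpenι ((eps X).obj (Z i)) N' hN'o ≫ (eps X).map (f i), ?_, ?_, ⟨⟨b, hbN'⟩, hb⟩⟩
  · exact Sieve.downward_closed _ (Sieve.image_mem_functorPushforward (eps X) _ (Sieve.ofArrows_mk Z f i)) _
  · have h1 : IsOpenEmbedding (Set.inclusion hN') := by
      refine ⟨IsEmbedding.inclusion hN', ?_⟩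
      rw [Set.range_inclusion]
      exact hN'o.preimage continuous_subtype_val
    exact hemb.comp h1

theorem epsCont : An.EpsCont X := by
  haveI := representablyFlat X
  exact Functor.isContinuous_of_coverPreserving (compatiblePreservingOfFlat _ _) (coverPreserving X)

set_option backward.defeqAttrib.useBackward true in
set_option backward.isDefEq.respectTransparency false in
theorem preservesFiniteLimits_lan :
    PreservesFiniteLimits ((eps X).op.lan : (X.Etaleᵒᵖ ⥤ AddCommGrpCat.{1}) ⥤ _) := by
  haveI := representablyFlat X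
  let G := eps X
  constructor
  intro J _ _
  refine preservesLimitsOfShape_of_evaluation _ J fun K => ?_
  haveI : IsFiltered (CostructuredArrow G.op K) :=
    IsFiltered.of_equivalence (structuredArrowOpEquivalence G (Opposite.unop K))
  let e : G.op.lan ⋙ (evaluation _ AddCommGrpCat.{1}).obj K ≅
      (Functor.whiskeringLeft _ _ _).obj (CostructuredArrow.proj G.op K) ⋙ colim :=
    NatIso.ofComponents (fun F =>
      IsColimit.coconePointUniqueUpToIso
        (Functor.isPointwiseLeftKanExtensionLeftKanExtensionUnit G.op F K) (colimit.isColimit _))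
      fun {F₁ F₂} φ => by
        apply (Functor.isPointwiseLeftKanExtensionLeftKanExtensionUnit G.op F₁ K).hom_ext
        intro T
        have h₁ := fun (F : X.Etaleᵒᵖ ⥤ AddCommGrpCat.{1}) => IsColimit.comp_coconePointUniqueUpToIso_hom
          (Functor.isPointwiseLeftKanExtensionLeftKanExtensionUnit G.op F K) (colimit.isColimit _) T
        have h₂ := congr_app (G.op.lanUnit.naturality φ) T.left
        dsimp at h₁ h₂ ⊢
        simp only [Category.assoc] at h₁ ⊢
        simp only [Functor.lan, Functor.lanUnit] at h₂ ⊢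
        rw [reassoc_of% h₁, NatTrans.naturality_assoc, ← reassoc_of% h₂, h₁, ι_colimMap,
          Functor.whiskerLeft_app]
        rfl
  let eq : CostructuredArrow G.op K ≌ AsSmall.{1} (CostructuredArrow G.op K) := AsSmall.equiv
  haveI : IsFiltered (AsSmall.{1} (CostructuredArrow G.op K)) := IsFiltered.of_equivalence eq
  haveI : HasExactColimitsOfShape (CostructuredArrow G.op K) AddCommGrpCat.{1} :=
    HasExactColimitsOfShape.of_domain_equivalence _ eq.symm
  exact preservesLimitsOfShape_of_natIso e.symm

end Groth.Agent.AnEps
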