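import Groth.Agent.AnPts.Connected
import Groth.Agent.AnPts.Separated
import Groth.Agent.AnPts.Etale
import Groth.Agent.AnEps.Flat
import Mathlib.AlgebraicGeometry.Morphisms.FlatMono
import Mathlib.AlgebraicGeometry.Morphisms.FormallyUnramified

/-!
# The functor `U ↦ U(ℂ)` on étale schemes is faithful, and full towards separated targets
-/

set_option autoImplicit false

open AlgebraicGeometry CategoryTheory Limits TopologicalSpace Topology
open An

namespace Groth.Agent.AnEps

variable {X Y Z : Scheme.{0}} [X.Over SC] [Y.Over SC] [Z.Over SC]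

theorem isOpen_eq_univ_of_pts [LocallyOfFiniteType (X ↘ SC)] (T : X.Opens) (h : ∀ x : Pts X, x.pt ∈ T) :
    (T : Set X) = Set.univ := by
  by_contra hne
  obtain ⟨x, hx⟩ := AnPts.exists_pts_of_isLocallyClosed (Set.nonempty_compl.2 hne)
    T.isOpen.isClosed_compl.isLocallyClosed
  exact hx (h x)

theorem exists_isClopen_preimage [LocallyOfFiniteType (X ↘ SC)] {C : Set (Pts X)} (hC : IsClopen C) :
    ∃ T : Set X, IsClopen T ∧ ∀ x : Pts X, x.pt ∈ T ↔ x ∈ C := by
  haveI : IsLocallyNoetherian X := LocallyOfFiniteType.isLocallyNoetherian (X ↘ SC)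
  let T : Set X := {q | Pts.pt ⁻¹' closure {q} ⊆ C}
  have hne : ∀ q : X, (Pts.pt ⁻¹' closure {q} : Set (Pts X)).Nonempty := fun q =>
    AnPts.exists_pts_of_isLocallyClosed ⟨q, subset_closure rfl⟩ isClosed_closure.isLocallyClosed
  have hspec : ∀ p q : X, p ⤳ q → (p ∈ T ↔ q ∈ T) := by
    intro p q h
    refine ⟨fun hp => (Set.preimage_mono h.closure_subset).trans hp, fun hq => ?_⟩
    obtain ⟨x, hx⟩ := hne q
    exact (AnPts.isPreconnected_preimage_closure p).subset_isClopen hC ⟨x, h.closure_subset hx, hq hx⟩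
  have key : ∀ T : Set X, (∀ p q : X, p ⤳ q → (p ∈ T ↔ q ∈ T)) → IsOpen T := by
    intro T hT
    refine isOpen_iff_forall_mem_open.2 fun p hp => ?_
    obtain ⟨_, ⟨(U : X.Opens), hU, rfl⟩, hpU, -⟩ :=
      X.isBasis_affineOpens.exists_subset_of_mem_open (Set.mem_univ p) isOpen_univ
    haveI : IsAffine (U : Scheme) := hU
    haveI : IsNoetherian (U : Scheme) := {}
    have hcl : IsClosed (U.ι ⁻¹' Tᶜ) := by
      have heq : U.ι ⁻¹' Tᶜ =
          ⋃ C ∈ {C | C ∈ irreducibleComponents (U : Scheme) ∧ C ⊆ U.ι ⁻¹' Tᶜ}, C := by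
        refine Set.Subset.antisymm (fun u hu => ?_) (Set.iUnion₂_subset fun C hC => hC.2)
        refine Set.mem_biUnion (x := irreducibleComponent u)
          ⟨irreducibleComponent_mem_irreducibleComponents u, fun v hv => ?_⟩ mem_irreducibleComponent
        have hg := (isIrreducible_irreducibleComponent (x := u)).isGenericPoint_genericPoint_closure
        rw [(isClosed_irreducibleComponent (x := u)).closure_eq] at hg
        have h1 := hT _ _ ((hg.specializes mem_irreducibleComponent).map U.ι.continuous)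
        have h2 := hT _ _ ((hg.specializes hv).map U.ι.continuous)
        exact fun hvT => hu (h1.1 (h2.2 hvT))
      rw [heq]
      exact (NoetherianSpace.finite_irreducibleComponents.subset fun C hC => hC.1).isClosed_biUnion
        fun C hC => isClosed_of_mem_irreducibleComponents C hC.1
    refine ⟨U.ι '' (U.ι ⁻¹' T), Set.image_preimage_subset _ _, U.ι.isOpenEmbedding.isOpenMap _ ?_,
      ⟨⟨p, hpU⟩, hp, rfl⟩⟩
    rw [Set.preimage_compl, isClosed_compl_iff] at hcl
    exact hcl
  refine ⟨T, ⟨isOpen_compl_iff.1 (key Tᶜ fun p q h => not_congr (hspec p q h)), key T hspec⟩, fun x => ?_⟩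
  refine ⟨fun h => h (subset_closure rfl), fun h => ?_⟩
  exact (AnPts.isPreconnected_preimage_closure x.pt).subset_isClopen hC ⟨x, subset_closure rfl, h⟩

theorem hom_ext_of_pts [LocallyOfFiniteType (Y ↘ SC)] (u : Y ⟶ X) (v : Z ⟶ X) (f g : Y ⟶ Z)
    [f.IsOver SC] [g.IsOver SC] [FormallyUnramified v] [LocallyOfFiniteType v]
    (hf : f ≫ v = u) (hg : g ≫ v = u) (h : ∀ a : Pts Y, Pts.map f a = Pts.map g a) : f = g := by
  let m : Y ⟶ pullback v v := pullback.lift f g (hf.trans hg.symm)
  let T : Y.Opens := m ⁻¹ᵁ (pullback.diagonal v).opensRange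
  have hT : (T : Set Y) = Set.univ := isOpen_eq_univ_of_pts T fun a => by
    have h1 : a.1 ≫ f = a.1 ≫ g := congrArg Subtype.val (h a)
    have h2 : a.1 ≫ m = (a.1 ≫ f) ≫ pullback.diagonal v := by
      refine pullback.hom_ext ?_ ?_
      · rw [Category.assoc, Category.assoc, pullback.lift_fst, pullback.diagonal_fst, Category.comp_id]
      · rw [Category.assoc, Category.assoc, pullback.lift_snd, pullback.diagonal_snd, Category.comp_id]
        exact h1.symm
    refine ⟨(a.1 ≫ f) cpt, ?_⟩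
    rw [← Scheme.Hom.comp_apply, ← h2, Scheme.Hom.comp_apply]
    rfl
  have hr : Set.range m ⊆ Set.range (pullback.diagonal v) := by
    rintro _ ⟨y, rfl⟩
    exact (hT.ge (Set.mem_univ y) : y ∈ T)
  have h3 := IsOpenImmersion.lift_fac (pullback.diagonal v) m hr
  have e1 := congrArg (· ≫ pullback.fst v v) h3
  have e2 := congrArg (· ≫ pullback.snd v v) h3
  simp only [Category.assoc, pullback.diagonal_fst, pullback.diagonal_snd, Category.comp_id, m,
    pullback.lift_fst, pullback.lift_snd] at e1 e2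
  exact e1.symm.trans e2

theorem exists_hom_of_pts [LocallyOfFiniteType (X ↘ SC)] (u : Y ⟶ X) (v : Z ⟶ X) [u.IsOver SC] [v.IsOver SC]
    [Etale u] [Etale v] [IsSeparated v] (φ : Pts Y → Pts Z) (hφ : Continuous φ)
    (hover : ∀ a, Pts.map v (φ a) = Pts.map u a) :
    ∃ (m : Y ⟶ Z) (_ : m.IsOver SC), m ≫ v = u ∧ ∀ a, Pts.map m a = φ a := by
  haveI : LocallyOfFiniteType (Y ↘ SC) := by rw [← comp_over u (S := SC)]; infer_instance
  haveI : LocallyOfFiniteType (Z ↘ SC) := by rw [← comp_over v (S := SC)]; infer_instance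
  let p : pullback u v ⟶ Y := pullback.fst u v
  haveI : LocallyOfFiniteType (pullback u v ↘ SC) := inferInstanceAs (LocallyOfFiniteType (p ≫ Y ↘ SC))
  haveI : Etale p := inferInstanceAs (Etale (pullback.fst u v))
  haveI : IsSeparated p := inferInstanceAs (IsSeparated (pullback.fst u v))
  haveI : p.IsOver SC := inferInstanceAs ((pullback.fst u v).IsOver SC)
  let e := (AnPts.isHomeomorph_pairMap u v).homeomorph
  let γ : Pts Y → Pts (pullback u v) := fun a => e.symm ⟨(a, φ a), (hover a).symm⟩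
  have hγ : Continuous γ := e.symm.continuous.comp ((continuous_id.prodMk hφ).subtype_mk _)
  have hγ1 : ∀ a, Pts.map p (γ a) = a := fun a =>
    congrArg (fun q => q.1.1) (e.apply_symm_apply ⟨(a, φ a), (hover a).symm⟩)
  have hγ2 : ∀ a, Pts.map (pullback.snd u v) (γ a) = φ a := fun a =>
    congrArg (fun q => q.1.2) (e.apply_symm_apply ⟨(a, φ a), (hover a).symm⟩)
  have hopen : IsOpen (Set.range γ) := by
    refine ((AnPts.isLocalHomeomorph_map p).isOpenEmbedding_of_comp (f := γ) ?_ hγ).isOpen_range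
    rw [show Pts.map p ∘ γ = id from funext hγ1]
    exact IsOpenEmbedding.id
  have hclosed : IsClosed (Set.range γ) := by
    have hsep := (AnPts.isSeparated_iff p).1 inferInstance
    have h := hsep.isClosed_eqLocus (hγ.comp (Pts.continuous_map p)) continuous_id (funext fun z => hγ1 _)
    convert! h using 1
    ext z
    exact ⟨fun ⟨a, ha⟩ => show γ (Pts.map p z) = z by rw [← ha, hγ1], fun hz => ⟨_, hz⟩⟩
  obtain ⟨T, hT, hTC⟩ := exists_isClopen_preimage ⟨hclosed, hopen⟩
  let T' : (pullback u v).Opens := ⟨T, hT.isOpen⟩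
  letI : (T' : Scheme).Over SC := AnPts.opensOver T'
  haveI : T'.ι.IsOver SC := ⟨rfl⟩
  let h : (T' : Scheme) ⟶ Y := T'.ι ≫ p
  haveI : h.IsOver SC := ⟨by
    change (T'.ι ≫ p) ≫ (Y ↘ SC) = T'.ι ≫ (pullback u v ↘ SC)
    rw [Category.assoc, comp_over p]⟩
  haveI : LocallyOfFiniteType ((T' : Scheme) ↘ SC) :=
    inferInstanceAs (LocallyOfFiniteType (T'.ι ≫ pullback u v ↘ SC))
  have hrange : Set.range (Pts.map T'.ι) = Set.range γ := by
    rw [AnPts.range_map_of_isOpenImmersion]
    ext z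
    change z.pt ∈ Set.range T'.ι ↔ _
    rw [Scheme.Opens.range_ι]
    exact hTC z
  have hinj : Function.Injective (Pts.map h) := by
    intro t t' htt
    obtain ⟨a, ha⟩ := hrange.le ⟨t, rfl⟩
    obtain ⟨a', ha'⟩ := hrange.le ⟨t', rfl⟩
    refine (AnPts.isOpenEmbedding_map T'.ι).injective ?_
    rw [Pts.map_comp, Pts.map_comp, ← ha, ← ha', hγ1, hγ1] at htt
    rw [← ha, ← ha', htt]
  haveI : (pullback.diagonal h).IsOver SC := ⟨by
    change pullback.diagonal h ≫ pullback.fst h h ≫ ((T' : Scheme) ↘ SC) = (T' : Scheme) ↘ SC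
    rw [← Category.assoc, pullback.diagonal_fst, Category.id_comp]⟩
  haveI : LocallyOfFiniteType (pullback h h ↘ SC) :=
    inferInstanceAs (LocallyOfFiniteType (pullback.fst h h ≫ (T' : Scheme) ↘ SC))
  have hdiag : ((pullback.diagonal h).opensRange : Set (pullback h h : Scheme)) = Set.univ := by
    refine isOpen_eq_univ_of_pts _ fun z => ?_
    have hz := hinj (Pts.map_pullback_condition h h z)
    have h1 : z = Pts.map (pullback.diagonal h) (Pts.map (pullback.fst h h) z) := by
      refine Subtype.ext (pullback.hom_ext ?_ ?_)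
      · simp
      · have := congrArg Subtype.val hz
        simpa using this.symm
    rw [h1, Pts.pt_map]
    exact ⟨_, rfl⟩
  haveI : Surjective (pullback.diagonal h) := ⟨Set.range_eq_univ.1 hdiag⟩
  haveI : IsIso (pullback.diagonal h) :=
    (isIso_iff_isOpenImmersion_and_surjective _).2 ⟨inferInstance, inferInstance⟩
  haveI : Mono h := (pullback.isIso_diagonal_iff h).1 inferInstance
  haveI : IsOpenImmersion h := IsOpenImmersion.of_flat_of_mono h
  have hsurj : ∀ a : Pts Y, ∃ t, Pts.map h t = a ∧ Pts.map T'.ι t = γ a := by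
    intro a
    obtain ⟨t, ht⟩ := hrange.ge ⟨a, rfl⟩
    exact ⟨t, by rw [Pts.map_comp, ht, hγ1], ht⟩
  haveI : Surjective h := ⟨Set.range_eq_univ.1 (isOpen_eq_univ_of_pts h.opensRange fun a => by
    obtain ⟨t, ht, -⟩ := hsurj a
    rw [← ht, Pts.pt_map]
    exact ⟨_, rfl⟩)⟩
  haveI : IsIso h := (isIso_iff_isOpenImmersion_and_surjective _).2 ⟨inferInstance, inferInstance⟩
  let m : Y ⟶ Z := inv h ≫ T'.ι ≫ pullback.snd u v
  have hmv : m ≫ v = u := by
    change (inv h ≫ T'.ι ≫ pullback.snd u v) ≫ v = u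
    rw [Category.assoc, Category.assoc, ← pullback.condition, ← Category.assoc T'.ι]
    exact IsIso.inv_hom_id_assoc h u
  haveI hm : m.IsOver SC := ⟨by rw [← comp_over v (S := SC), ← Category.assoc, hmv, comp_over u]⟩
  refine ⟨m, hm, hmv, fun a => ?_⟩
  obtain ⟨t, ht, ht'⟩ := hsurj a
  refine Subtype.ext ?_
  rw [← ht]
  change (t.1 ≫ h) ≫ m = _
  rw [← hγ2 (Pts.map h t), show γ (Pts.map h t) = Pts.map T'.ι t by rw [ht', ht]]
  change _ = (t.1 ≫ T'.ι) ≫ pullback.snd u v
  simp [m]

end Groth.Agent.AnEps
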